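import Groth.Agent.EtPBC63.Good.Family
import Groth.Agent.SymPow92.Main
import Groth.Agent.HTop74.PhExt
import Groth.Agent.KRRLib.PnBC.Base

/-!
# Reduction of proper morphisms to the projective line
-/

universe u

open CategoryTheory CategoryTheory.Limits AlgebraicGeometry Opposite

namespace Groth.Agent.EtPBC63.Good

set_option backward.isDefEq.respectTransparency.types false
set_option linter.style.haveILetI false

/-- Projective space of dimension `n` over the integers. -/
noncomputable abbrev pnZ (n : ℕ) : CohB1.ProjSpace n (ULift.{u} ℤ) ⟶ Spec (CommRingCat.of (ULift.{u} ℤ)) :=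
  CohB1.ProjSpace.toSpec n (ULift.{u} ℤ)

theorem uGood_toBase {n : ℕ} (h : UGood (pnZ.{u} n)) (S : Scheme.{u}) :
    UGood (CohB1.ProjSpaceOver.toBase n S) :=
  h.of_isPullback (g' := pullback.fst _ _) (g := specULiftZIsTerminal.from S) (IsPullback.of_hasPullback _ _)

theorem isProper_toBase (n : ℕ) (S : Scheme.{u}) : IsProper (CohB1.ProjSpaceOver.toBase n S) := by
  haveI := PnCoh.Chow.isProper_toSpec n (ULift.{u} ℤ)
  exact MorphismProperty.pullback_snd _ _ inferInstance

theorem uGood_pnZ (h1 : UGood (pnZ.{u} 1)) : ∀ n : ℕ, UGood (pnZ.{u} n) := by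
  intro n
  induction n with
  | zero =>
    haveI : IsIso (pnZ.{u} 0) := by
      unfold pnZ
      rw [specULiftZIsTerminal.hom_ext (CohB1.ProjSpace.toSpec 0 (ULift.{u} ℤ))
        (specULiftZIsTerminal.from (CohB1.ProjSpace 0 (ULift.{u} ℤ)))]
      exact SymPow92.isIso_from_PZ_zero
    exact uGood_of_integral _
  | succ n ih =>
    let S := Spec (CommRingCat.of (ULift.{u} ℤ))
    obtain ⟨hfin, hsurj⟩ := SymPow92.isFinite_and_surjective_multS S n
    haveI := isProper_toBase n S
    have h2 : UGood (SymPow92.multS S n ≫ CohB1.ProjSpaceOver.toBase (n + 1) S) := by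
      rw [SymPow92.multS_toBase]
      haveI : IsProper (pullback.fst (CohB1.ProjSpaceOver.toBase 1 S) (CohB1.ProjSpaceOver.toBase n S)) :=
        MorphismProperty.pullback_fst _ _ inferInstance
      refine UGood.comp ?_ (uGood_toBase h1 S)
      exact (uGood_toBase ih S).of_isPullback (g' := pullback.snd _ _)
        (g := CohB1.ProjSpaceOver.toBase 1 S) (IsPullback.of_hasPullback _ _).flip
    haveI := hfin
    haveI := hsurj
    have h3 : UGood (CohB1.ProjSpaceOver.toBase (n + 1) S) :=
      (uGood_of_integral (SymPow92.multS S n)).sandwich h2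
    have hfrom : specULiftZIsTerminal.from S = 𝟙 S := specULiftZIsTerminal.hom_ext _ _
    haveI : IsIso (specULiftZIsTerminal.from S) := by rw [hfrom]; infer_instance
    refine uGood_of_iso (f := CohB1.ProjSpaceOver.toBase (n + 1) S)
      (asIso (pullback.fst (pnZ.{u} (n + 1)) (specULiftZIsTerminal.from S))).symm ?_ h3
    exact specULiftZIsTerminal.hom_ext _ _

theorem uGood_toSpec {n : ℕ} (h : UGood (pnZ.{u} n)) (A : Type u) [CommRing A] :
    UGood (CohB1.ProjSpace.toSpec n A) :=
  h.of_isPullback (KRRLib.PnBC.isPullback_bcHom ((Int.castRingHom A).comp ULift.ringEquiv.toRingHom))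

theorem uGood_of_isProper_affine (h1 : UGood (pnZ.{u} 1)) {A : Type u} [CommRing A] {V : Scheme.{u}}
    (f : V ⟶ Spec (CommRingCat.of A)) [IsProper f] : UGood f := by
  obtain ⟨κ, hκ, X', π, N, p, hπ, hp, hpπ, hcov⟩ := HTop74.exists_chow_pieces f
  obtain ⟨m, ⟨e⟩⟩ := Finite.exists_equiv_fin κ
  have hP := fun K => uGood_toSpec (uGood_pnZ h1 (N K)) A
  haveI : ∀ K, IsProper (CohB1.ProjSpace.toSpec (N K) A) := fun K => PnCoh.Chow.isProper_toSpec _ _
  haveI := hπ
  haveI := hp
  have hp' : ∀ K, IsClosedImmersion (p K) := fun K => by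
    haveI : IsProper (p K ≫ CohB1.ProjSpace.toSpec (N K) A) := by rw [hpπ K]; infer_instance
    exact (IsClosedImmersion.iff_isProper_and_mono _).2
      ⟨IsProper.of_comp _ (CohB1.ProjSpace.toSpec (N K) A), inferInstance⟩
  have hgraph : ∀ K, UGood (π K) := fun K => by
    let q := pullback.lift (p K) (π K) (hpπ K)
    haveI : IsProper (q ≫ pullback.snd (CohB1.ProjSpace.toSpec (N K) A) f) := by
      rw [pullback.lift_snd]; infer_instance
    haveI : IsClosedImmersion q := by
      refine (IsClosedImmersion.iff_isProper_and_mono _).2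
        ⟨IsProper.of_comp _ (pullback.snd (CohB1.ProjSpace.toSpec (N K) A) f), ?_⟩
      haveI : Mono (q ≫ pullback.fst (CohB1.ProjSpace.toSpec (N K) A) f) := by
        rw [pullback.lift_fst]; infer_instance
      exact mono_of_mono _ (pullback.fst (CohB1.ProjSpace.toSpec (N K) A) f)
    have := (uGood_of_integral q).comp ((hP K).of_isPullback (IsPullback.of_hasPullback _ f))
    rwa [pullback.lift_snd] at this
  refine uGood_of_family (fun i : Fin m => π (e.symm i)) (fun v => ?_) (fun i => hgraph _) fun i => ?_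
  · obtain ⟨K, hK⟩ := hcov v
    exact ⟨e K, by rwa [e.symm_apply_apply]⟩
  · haveI := hp' (e.symm i)
    rw [← hpπ]
    exact (uGood_of_integral (p (e.symm i))).comp (hP _)

/-- Every proper morphism is good once the projective line is. -/
theorem uGood_of_isProper (h1 : UGood (pnZ.{u} 1)) {X Y : Scheme.{u}} (f : X ⟶ Y) [IsProper f] : UGood f := by
  refine uGood_of_openCover Y.affineCover fun i => ?_
  let B := Γ(Y.affineCover.X i, ⊤)
  haveI : IsAffine (Y.affineCover.X i) := inferInstance
  let s := pullback.snd f (Y.affineCover.f i)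
  haveI : IsProper s := MorphismProperty.pullback_snd _ _ inferInstance
  have h := uGood_of_isProper_affine h1 (A := B) (s ≫ (Y.affineCover.X i).isoSpec.hom)
  exact h.of_isPullback (g' := 𝟙 _) (g := (Y.affineCover.X i).isoSpec.hom) (IsPullback.of_horiz_isIso ⟨Category.id_comp _⟩)

end Groth.Agent.EtPBC63.Good
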