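import Groth.Agent.EtPBC63.Good.Shift
import Groth.Agent.EtDerLib.RpushLoc
import Groth.Agent.EtLC12.QcqsAcyclic
import Groth.Agent.EtBCLib.BCQEt

/-!
# Filtered colimits of acyclic sheaves are acyclic for quasi-compact quasi-separated morphisms
-/

universe u

open CategoryTheory CategoryTheory.Limits AlgebraicGeometry Opposite CategoryTheory.Abelian

namespace Groth.Agent.EtPBC63.Good

open EtFound EtDerLib TriCat

set_option backward.isDefEq.respectTransparency.types false

variable {X Y : Scheme.{u}} {Λ : Type (u + 1)} [SmallCategory Λ] [IsFiltered Λ]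

/-- `H^q(U, -)` commutes with filtered colimits for qcqs objects. -/
theorem comm_HT (U : X.Etale) (hU : IsQcqsObj U) (q : ℕ) (D : Λ ⥤ EtCoh.Ab X) :
    EtLC12.ExtColimGen.Comm (ZU U) q D := by
  refine EtLC12.ExtColimGen.comm_all (fun D => ?_) (fun D hD n => ?_) q D
  · haveI : PreservesColimitsOfShape Λ (sheafToPresheaf X.smallEtaleTopology AddCommGrpCat.{u + 1} ⋙
        (evaluation X.Etaleᵒᵖ AddCommGrpCat.{u + 1}).obj (op U)) := preservesColimitsOfShape_sections_qcqs_ab _ hU Λ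
    let hc := isColimitOfPreserves (sheafToPresheaf X.smallEtaleTopology AddCommGrpCat.{u + 1} ⋙
        (evaluation X.Etaleᵒᵖ AddCommGrpCat.{u + 1}).obj (op U)) (colimit.isColimit D)
    constructor
    · intro x
      obtain ⟨φ, rfl⟩ := (Ext.mk₀_bijective _ _).2 x
      obtain ⟨i, t, ht⟩ := Concrete.isColimit_exists_rep _ hc (zuEquiv U _ φ)
      refine ⟨i, Ext.mk₀ ((zuEquiv U _).symm t), ?_⟩
      rw [Ext.mk₀_comp_mk₀]
      congr 1
      exact ((zuEquiv_symm_comp U t (colimit.ι D i)).trans (congrArg (zuEquiv U _).symm ht)).trans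
        (Equiv.symm_apply_apply _ _)
    · intro i y hy
      obtain ⟨φ, rfl⟩ := (Ext.mk₀_bijective _ _).2 y
      rw [Ext.mk₀_comp_mk₀, ← Ext.mk₀_zero] at hy
      have h1 := (Ext.mk₀_bijective _ _).1 hy
      have h2 : (colimit.ι D i).hom.app (op U) (zuEquiv U _ φ) = (colimit.ι D i).hom.app (op U) 0 := by
        rw [map_zero, ← zuEquiv_comp, h1, zuEquiv_eq]
        rfl
      obtain ⟨j, a, b, hab⟩ := Concrete.isColimit_exists_of_rep_eq _ hc _ _ h2
      refine ⟨j, a, ?_⟩
      rw [Ext.mk₀_comp_mk₀, ← Ext.mk₀_zero]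
      congr 1
      apply (zuEquiv U _).injective
      refine (zuEquiv_comp U φ (D.map a)).trans (hab.trans ((map_zero _).trans ?_))
      rw [zuEquiv_eq]
      rfl
  · haveI : Etale U.hom := U.prop
    haveI := EtBCLib.pull_preservesInjective_of_etale U.hom
    haveI : (EtCoh.pull U.hom).IsLeftAdjoint := (EtCoh.pullPushAdj U.hom).isLeftAdjoint
    haveI : CompactSpace U.left := hU.1
    haveI : QuasiSeparatedSpace U.left := hU.2
    have h : Subsingleton (EtCoh.H U.left ((EtCoh.pull U.hom).obj (colimit D)) (n + 1)) := by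
      have h0 : Subsingleton (EtCoh.H U.left (colimit (D ⋙ EtCoh.pull U.hom)) (n + 1)) :=
        EtLC12.QcqsAcyclic.subsingleton_H_of_isCechAcyclic n _ (EtLC12.QcqsAcyclic.isCechAcyclic_colimit _ fun j =>
          haveI := hD j
          @EtLC12.QcqsAcyclic.isCechAcyclic_of_injective _ ((D ⋙ EtCoh.pull U.hom).obj j)
            (Functor.PreservesInjectiveObjects.injective_obj (F := EtCoh.pull U.hom) (hD j)))
      exact @Equiv.subsingleton _ _ ((EtCoh.HF U.left (n + 1)).mapIso
        (preservesColimitIso (EtCoh.pull U.hom) D)).addCommGroupIsoToAddEquiv.toEquiv h0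
    exact (toH_bijective U (n + 1) (colimit D)).1.subsingleton

/-- Filtered colimits of acyclic sheaves are acyclic. -/
theorem isRightAcyclic_push_colimit (f : X ⟶ Y) [QuasiCompact f] [QuasiSeparated f] (D : Λ ⥤ EtCoh.Ab X)
    (hD : ∀ j, IsRightAcyclic (EtCoh.push f) (D.obj j)) : IsRightAcyclic (EtCoh.push f) (colimit D) := by
  intro q hq
  obtain ⟨q, rfl⟩ : ∃ p, q = p + 1 := ⟨q - 1, by omega⟩
  refine (isZero_Rpush_iff f q (colimit D)).mpr fun V x v => ?_
  obtain ⟨O, hO, hvO, -⟩ := exists_isAffineOpen_mem_and_subset (Set.mem_univ v) (U := (⊤ : V.left.Opens))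
  let W := restrictEtale V O
  let g : W ⟶ V := restrictEtaleHom V O
  haveI : IsAffine W.left := hO
  have hWa : IsAffine W.left := hO
  have hqc : QuasiCompact (pullback.fst W.hom f : ((EtCoh.bc f).obj W).left ⟶ W.left) :=
    MorphismProperty.pullback_fst _ _ ‹QuasiCompact f›
  have hqs : QuasiSeparated (pullback.fst W.hom f : ((EtCoh.bc f).obj W).left ⟶ W.left) :=
    MorphismProperty.pullback_fst _ _ ‹QuasiSeparated f›
  have hcW : CompactSpace W.left := isCompact_univ_iff.1 (isAffineOpen_top W.left).isCompact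
  have hsW : QuasiSeparatedSpace W.left := (isQcqsObj_of_isAffine W).2
  have hqcqs : IsQcqsObj ((EtCoh.bc f).obj W) :=
    ⟨@QuasiCompact.compactSpace_of_compactSpace _ _ (pullback.fst W.hom f : ((EtCoh.bc f).obj W).left ⟶ W.left) hqc hcW,
      @quasiSeparatedSpace_of_quasiSeparated _ _ (pullback.fst W.hom f : ((EtCoh.bc f).obj W).left ⟶ W.left) hsW hqs⟩
  obtain ⟨i, y, hy⟩ := (comm_HT ((EtCoh.bc f).obj W) hqcqs (q + 1) D).surj
    (HTres (colimit D) (q + 1) ((EtCoh.bc f).map g) x)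
  obtain ⟨W', g', m, ⟨w', hw'⟩, hm, h0⟩ := (isZero_Rpush_iff f q (D.obj i)).mp (hD i (q + 1) hq) W y
    (⟨v, hvO⟩ : O)
  refine ⟨W', g' ≫ g, m, ⟨w', ?_⟩, hm, ?_⟩
  · exact (Scheme.Hom.comp_apply _ _ _).trans ((congrArg g.left.base hw').trans rfl)
  · have e1 : HTres (colimit D) (q + 1) ((EtCoh.bc f).map (g' ≫ g)) x =
        HTres (colimit D) (q + 1) ((EtCoh.bc f).map g') (HTres (colimit D) (q + 1) ((EtCoh.bc f).map g) x) := by
      rw [(EtCoh.bc f).map_comp]
      show (Ext.mk₀ (ZUmap _)).comp x (zero_add _) = (Ext.mk₀ _).comp ((Ext.mk₀ _).comp x (zero_add _)) (zero_add _)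
      rw [← Ext.comp_assoc _ _ _ (zero_add 0) (zero_add (q + 1)) (by omega), Ext.mk₀_comp_mk₀]
      congr 2
      apply (zuEquiv _ (ZU ((EtCoh.bc f).obj V))).injective
      calc zuEquiv _ _ (ZUmap ((EtCoh.bc f).map g' ≫ (EtCoh.bc f).map g))
          = zuEquiv _ _ (ZUmap ((EtCoh.bc f).map g' ≫ (EtCoh.bc f).map g) ≫ 𝟙 _) := by rw [Category.comp_id]
        _ = _ := by
          rw [zuEquiv_ZUmap, op_comp, Functor.map_comp_apply, zuEquiv_ZUmap]
          congr 1
          rw [← zuEquiv_ZUmap, Category.comp_id]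
    rw [e1, ← hy, HTres_comp_apply]
    refine Eq.trans ?_ ((congrArg (fun z : HT (D.obj i) (q + 1) _ => z.comp (Ext.mk₀ (colimit.ι D i)) (add_zero _)) h0).trans
      (Ext.zero_comp _ _ _ _ _))
    exact (map_nsmul ((Ext.mk₀ (colimit.ι D i)).postcomp _ (add_zero (q + 1))) m _).symm

end Groth.Agent.EtPBC63.Good
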