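import Groth.Agent.EtPBC63.Good.Shift
import Groth.Agent.EtPBC63.Proper0.BC
import Groth.Agent.EtPBC63.Torsion
import Groth.Agent.EtBCLib.InjDiv
import Groth.Agent.EtBCLib.EtHPaste

/-!
# Sheaves injective among sheaves killed by a prime, and morphisms for which they stay acyclic

`Good f` is the second condition of the criterion for cohomology to commute with base change.
-/

universe u

open CategoryTheory CategoryTheory.Limits AlgebraicGeometry Opposite

namespace Groth.Agent.EtPBC63.Good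

open TriCat

set_option backward.isDefEq.respectTransparency.types false

variable {X Y Z : Scheme.{u}}

/-- A sheaf killed by `ℓ` with the extension property against monomorphisms of such sheaves. -/
def EllInj (ℓ : ℕ) (I : EtCoh.Ab X) : Prop :=
  EtCoh.KilledBy ℓ I ∧ ∀ (G : EtCoh.Ab X), EtCoh.KilledBy ℓ G → ∀ (a : G ⟶ I) {G' : EtCoh.Ab X} (m : G ⟶ G'),
    EtCoh.KilledBy ℓ G' → Mono m → ∃ b : G' ⟶ I, m ≫ b = a

/-- Pullbacks of `ℓ`-injective sheaves are acyclic in every square on `f`. -/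
def Good (f : X ⟶ Y) : Prop :=
  ∀ (ℓ : ℕ), ℓ.Prime → ∀ (I : EtCoh.Ab X), EllInj ℓ I → ∀ ⦃X' Y' : Scheme.{u}⦄ (f' : X' ⟶ Y') (g' : X' ⟶ X)
    (g : Y' ⟶ Y), IsPullback g' f' f g → IsRightAcyclic (EtCoh.push f') ((EtCoh.pull g').obj I)

instance push_preservesInjectiveObjects (f : X ⟶ Y) : (EtCoh.push f).PreservesInjectiveObjects where
  injective_obj {I} _ := by
    haveI := EtFound.pull_preservesFiniteLimits f
    exact Injective.injective_of_adjoint (EtCoh.pullPushAdj f) I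

theorem killedBy_pull (f : X ⟶ Y) {n : ℕ} {F : EtCoh.Ab Y} (h : EtCoh.KilledBy n F) :
    EtCoh.KilledBy n ((EtCoh.pull f).obj F) := by
  haveI : (EtCoh.pull f).IsLeftAdjoint := (EtCoh.pullPushAdj f).isLeftAdjoint
  rw [EtBCLib.killedBy_iff] at h ⊢
  rw [← (EtCoh.pull f).map_id, ← Functor.map_nsmul, h, Functor.map_zero]

theorem killedBy_push (f : X ⟶ Y) {n : ℕ} {F : EtCoh.Ab X} (h : EtCoh.KilledBy n F) :
    EtCoh.KilledBy n ((EtCoh.push f).obj F) := fun U s => h ((EtCoh.bc f).obj U) s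

theorem EllInj.push (f : X ⟶ Y) {ℓ : ℕ} {I : EtCoh.Ab X} (hI : EllInj ℓ I) :
    EllInj ℓ ((EtCoh.push f).obj I) := by
  refine ⟨killedBy_push f hI.1, fun G hG a G' m hG' hm => ?_⟩
  haveI := EtFound.pull_preservesFiniteLimits f
  let adj := EtCoh.pullPushAdj f
  obtain ⟨b, hb⟩ := hI.2 _ (killedBy_pull f hG) ((adj.homEquiv _ _).symm a) ((EtCoh.pull f).map m)
    (killedBy_pull f hG') inferInstance
  refine ⟨adj.homEquiv _ _ b, ?_⟩
  rw [← adj.homEquiv_naturality_left, hb, Equiv.apply_symm_apply]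

theorem killedBy_kernel (I : EtCoh.Ab X) (n : ℕ) : EtCoh.KilledBy n (kernel (n • 𝟙 I)) :=
  (EtBCLib.killedBy_iff n _).mpr (killedBy_kernel_nsmul I n)

theorem nsmul_comp_eq_zero {A B : EtCoh.Ab X} {n : ℕ} (h : EtCoh.KilledBy n A) (b : A ⟶ B) :
    b ≫ (n • 𝟙 B) = 0 := by
  rw [Preadditive.comp_nsmul, Category.comp_id, ← Category.id_comp b, ← Preadditive.nsmul_comp,
    (EtBCLib.killedBy_iff n A).mp h, zero_comp]

theorem ellInj_kernel (I : EtCoh.Ab X) [Injective I] (ℓ : ℕ) : EllInj ℓ (kernel (ℓ • 𝟙 I)) := by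
  refine ⟨killedBy_kernel I ℓ, fun G _ a G' m hG' hm => ?_⟩
  refine ⟨kernel.lift _ (Injective.factorThru (a ≫ kernel.ι _) m) (nsmul_comp_eq_zero hG' _), ?_⟩
  rw [← cancel_mono (kernel.ι (ℓ • 𝟙 I)), Category.assoc, kernel.lift_ι, Injective.comp_factorThru]

theorem exists_ellInj_embedding {ℓ : ℕ} {F : EtCoh.Ab X} (hF : EtCoh.KilledBy ℓ F) :
    ∃ (J : EtCoh.Ab X) (ι : F ⟶ J), Mono ι ∧ EllInj ℓ J := by
  haveI : Injective (Injective.under F) := inferInstance
  refine ⟨_, kernel.lift _ (Injective.ι F) (nsmul_comp_eq_zero hF _), ?_, ellInj_kernel (Injective.under F) ℓ⟩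
  exact mono_of_mono_fac (kernel.lift_ι _ _ _)

theorem isRightAcyclic_push_kernel (f : X ⟶ Y) (I : EtCoh.Ab X) [Injective I] {n : ℕ} (hn : n ≠ 0) :
    IsRightAcyclic (EtCoh.push f) (kernel (n • 𝟙 I)) := by
  haveI : (EtCoh.push f).IsRightAdjoint := (EtCoh.pullPushAdj f).isRightAdjoint
  let S := ShortComplex.mk (kernel.ι (n • 𝟙 I)) (n • 𝟙 I) (kernel.condition _)
  haveI : Epi S.g := EtPBC63.epi_nsmul_of_injective I hn
  have hS : S.ShortExact := { exact := ShortComplex.exact_of_f_is_kernel _ (kernelIsKernel _) }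
  haveI : Injective S.X₂ := ‹Injective I›
  haveI : Injective S.X₃ := ‹Injective I›
  refine acyclic₁ hS (isRightAcyclic_of_injective S.X₂) (isRightAcyclic_of_injective S.X₃) ?_
  show Epi ((EtCoh.push f).map (n • 𝟙 I))
  rw [Functor.map_nsmul, CategoryTheory.Functor.map_id]
  haveI : Injective ((EtCoh.push f).obj I) := Functor.PreservesInjectiveObjects.injective_obj inferInstance
  exact EtPBC63.epi_nsmul_of_injective _ hn

theorem EllInj.isRightAcyclic_push {ℓ : ℕ} (hℓ : ℓ ≠ 0) {I : EtCoh.Ab X} (hI : EllInj ℓ I) (f : X ⟶ Y) :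
    IsRightAcyclic (EtCoh.push f) I := by
  haveI : Injective (Injective.under I) := inferInstance
  let ι : I ⟶ kernel (ℓ • 𝟙 (Injective.under I)) := kernel.lift _ (Injective.ι I) (nsmul_comp_eq_zero hI.1 _)
  haveI : Mono ι := mono_of_mono_fac (kernel.lift_ι _ _ _)
  obtain ⟨r, hr⟩ := hI.2 I hI.1 (𝟙 I) ι (killedBy_kernel _ ℓ) inferInstance
  exact isRightAcyclic_of_retract _ ι r hr (isRightAcyclic_push_kernel f _ hℓ)

theorem isRightAcyclic_of_natIso {A B : Type*} [Category A] [Abelian A] [EnoughInjectives A] [Category B] [Abelian B]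
    {F G : A ⥤ B} [F.Additive] [G.Additive] (e : F ≅ G) {M : A} (h : IsRightAcyclic F M) :
    IsRightAcyclic G M := fun q hq => by
  refine isZero_of_retract ((NatTrans.rightDerived e.inv q).app M) ((NatTrans.rightDerived e.hom q).app M) ?_ (h q hq)
  rw [← NatTrans.comp_app, ← NatTrans.rightDerived_comp, e.inv_hom_id, NatTrans.rightDerived_id]
  rfl

variable {f : X ⟶ Y} {g : Y ⟶ Z}

/-- Composition. -/
theorem Good.comp [IsProper f] (hf : Good f) (hg : Good g) : Good (f ≫ g) := by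
  intro ℓ hℓ I hI X' Z' h12 k' k hsq
  let k1 := pullback.fst g k
  let g1 := pullback.snd g k
  let f1 : X' ⟶ pullback g k := pullback.lift (k' ≫ f) h12 ((Category.assoc _ _ _).trans hsq.w)
  have e12 : f1 ≫ g1 = h12 := pullback.lift_snd _ _ _
  have sq1 : IsPullback k' f1 f k1 := by
    refine IsPullback.of_bot ?_ (pullback.lift_fst _ _ _).symm (IsPullback.of_hasPullback g k)
    rw [e12]; exact hsq
  haveI : (EtCoh.push g1).IsRightAdjoint := (EtCoh.pullPushAdj g1).isRightAdjoint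
  haveI : (EtCoh.push f1).IsRightAdjoint := (EtCoh.pullPushAdj f1).isRightAdjoint
  haveI := EtPBC63.Proper0.isIso_baseChange0_of_isProper sq1 I
  have h1 := hf ℓ hℓ I hI f1 k' k1 sq1
  have h2 : IsRightAcyclic (EtCoh.push g1) ((EtCoh.push f1).obj ((EtCoh.pull k').obj I)) :=
    isRightAcyclic_of_iso _ (asIso (EtCoh.baseChange0 f k1 f1 k' sq1.w I)).symm
      (hg ℓ hℓ _ (hI.push f) g1 k1 k (IsPullback.of_hasPullback g k))
  exact isRightAcyclic_of_natIso (EtCoh.pushComp g1 f1 ≪≫ EtCoh.pushCongr e12)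
    (isRightAcyclic_comp (EtCoh.push f1) (EtCoh.push g1) h1 h2)

/-- Descent along a surjection. -/
theorem Good.sandwich [IsProper f] [Surjective f] (hf : Good f) (hgf : Good (f ≫ g)) : Good g := by
  intro ℓ hℓ J hJ Y' Z' g1 k1 k hsq
  obtain ⟨I, ι, hι, hI⟩ := exists_ellInj_embedding (killedBy_pull f hJ.1)
  haveI := hι
  haveI : (EtCoh.push f).IsRightAdjoint := (EtCoh.pullPushAdj f).isRightAdjoint
  haveI := EtBCLib.mono_unit_surjective f J
  let j : J ⟶ (EtCoh.push f).obj I := (EtCoh.pullPushAdj f).unit.app J ≫ (EtCoh.push f).map ι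
  haveI : Mono j := mono_comp _ _
  obtain ⟨r, hr⟩ := hJ.2 J hJ.1 (𝟙 J) j (killedBy_push f hI.1) inferInstance
  let f1 := pullback.snd f k1
  let k' := pullback.fst f k1
  have sq1 : IsPullback k' f1 f k1 := IsPullback.of_hasPullback f k1
  haveI : (EtCoh.push g1).IsRightAdjoint := (EtCoh.pullPushAdj g1).isRightAdjoint
  haveI : (EtCoh.push f1).IsRightAdjoint := (EtCoh.pullPushAdj f1).isRightAdjoint
  haveI := EtPBC63.Proper0.isIso_baseChange0_of_isProper sq1 I
  refine isRightAcyclic_of_retract _ ((EtCoh.pull k1).map j) ((EtCoh.pull k1).map r)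
    (by rw [← Functor.map_comp, hr, (EtCoh.pull k1).map_id]) ?_
  refine isRightAcyclic_of_iso _ (asIso (EtCoh.baseChange0 f k1 f1 k' sq1.w I)) ?_
  refine isRightAcyclic_of_comp (EtCoh.push f1) (EtCoh.push g1) (hf ℓ hℓ I hI f1 k' k1 sq1) ?_
  exact isRightAcyclic_of_natIso (EtCoh.pushComp g1 f1).symm
    (hgf ℓ hℓ I hI (f1 ≫ g1) k' k (sq1.paste_vert hsq))

end Groth.Agent.EtPBC63.Good
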