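import Groth.Agent.EtPBC63.Good.Defs
import Groth.Agent.EtPBC63.Good.Colim
import Groth.Agent.EtLim64.DegZero

/-!
# Torsion sheaves embed into torsion sheaves that stay acyclic
-/

universe u

open CategoryTheory CategoryTheory.Limits AlgebraicGeometry Opposite

namespace Groth.Agent.EtPBC63.Good

open TriCat EtFound

set_option backward.isDefEq.respectTransparency.types false

variable {X Y : Scheme.{u}}

theorem isRightAcyclic_pull_kernel {f : X ⟶ Y} (hf : Good f) (I : EtCoh.Ab X) [Injective I] {X' Y' : Scheme.{u}}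
    {f' : X' ⟶ Y'} {g' : X' ⟶ X} {g : Y' ⟶ Y} (h : IsPullback g' f' f g) :
    ∀ n : ℕ, 0 < n → IsRightAcyclic (EtCoh.push f') ((EtCoh.pull g').obj (kernel (n • 𝟙 I))) := by
  intro n
  induction n using Nat.strong_induction_on with
  | _ n ih =>
    intro hn
    haveI : (EtCoh.push f').IsRightAdjoint := (EtCoh.pullPushAdj f').isRightAdjoint
    haveI : (EtCoh.pull g').IsLeftAdjoint := (EtCoh.pullPushAdj g').isLeftAdjoint
    haveI := EtFound.pull_preservesFiniteLimits g'
    by_cases h1 : n = 1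
    · subst h1
      intro q _
      refine ((EtCoh.push f').rightDerived q).map_isZero ((EtCoh.pull g').map_isZero ?_)
      haveI : Mono (1 • 𝟙 I) := by rw [one_smul]; infer_instance
      exact isZero_kernel_of_mono _
    let ℓ := n.minFac
    have hℓ : ℓ.Prime := Nat.minFac_prime h1
    obtain ⟨m, hm⟩ := Nat.minFac_dvd n
    change n = ℓ * m at hm
    have hm0 : 0 < m := Nat.pos_of_ne_zero fun e => by rw [e, mul_zero] at hm; omega
    have hcomp : (ℓ • 𝟙 I) ≫ (m • 𝟙 I) = n • 𝟙 I := by
      rw [Preadditive.nsmul_comp, Category.id_comp, ← mul_nsmul', ← hm]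
    let a : kernel (ℓ • 𝟙 I) ⟶ kernel (n • 𝟙 I) :=
      kernel.lift _ (kernel.ι _) (by rw [← hcomp, kernel.condition_assoc, zero_comp])
    let b : kernel (n • 𝟙 I) ⟶ kernel (m • 𝟙 I) :=
      kernel.lift _ (kernel.ι _ ≫ (ℓ • 𝟙 I)) (by rw [Category.assoc, hcomp, kernel.condition])
    have hab : a ≫ b = 0 := by
      apply (cancel_mono (kernel.ι (m • 𝟙 I))).1
      simp only [a, b, Category.assoc, kernel.lift_ι, kernel.lift_ι_assoc, kernel.condition, zero_comp]
    let S := ShortComplex.mk a b hab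
    haveI : Mono a := mono_of_mono_fac (kernel.lift_ι _ _ _)
    haveI : Epi b := by
      rw [epi_iff_surjective_up_to_refinements]
      intro A y
      haveI := EtPBC63.epi_nsmul_of_injective I hℓ.ne_zero
      obtain ⟨A', π, hπ, x, hx⟩ := surjective_up_to_refinements_of_epi (ℓ • 𝟙 I) (y ≫ kernel.ι (m • 𝟙 I))
      have hx0 : x ≫ (n • 𝟙 I) = 0 := by
        rw [← hcomp, ← Category.assoc, ← hx, Category.assoc, Category.assoc, kernel.condition, comp_zero, comp_zero]
      refine ⟨A', π, hπ, kernel.lift _ x hx0, ?_⟩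
      apply (cancel_mono (kernel.ι (m • 𝟙 I))).1
      simp only [b, Category.assoc, kernel.lift_ι, kernel.lift_ι_assoc]
      exact hx
    have hS : S.ShortExact := by
      have hexact : S.Exact := ShortComplex.exact_of_f_is_kernel _ (KernelFork.IsLimit.ofι' a hab fun k hk =>
        ⟨kernel.lift _ (k ≫ kernel.ι (n • 𝟙 I)) (by
          have h2 := congrArg (· ≫ kernel.ι (m • 𝟙 I)) hk
          simp only [b, S, Category.assoc, kernel.lift_ι, zero_comp] at h2
          rw [Category.assoc]; exact h2),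
          (cancel_mono (kernel.ι (n • 𝟙 I))).1 (by simp only [a, Category.assoc, kernel.lift_ι])⟩)
      exact { exact := hexact, mono_f := ‹Mono a›, epi_g := ‹Epi b› }
    refine acyclic₂ (hS.map_of_exact (EtCoh.pull g')) ?_ ?_
    · exact hf ℓ hℓ _ (ellInj_kernel I ℓ) f' g' g h
    · refine ih m ?_ hm0
      calc m = 1 * m := (one_mul m).symm
        _ < ℓ * m := Nat.mul_lt_mul_of_pos_right hℓ.one_lt hm0
        _ = n := hm.symm

section Tors

variable (I : EtCoh.Ab X)

abbrev Idx : Type (u + 1) := ULift.{u + 1} ℕ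

/-- The torsion levels of a sheaf. -/
noncomputable def levels : Idx.{u} ⥤ EtCoh.Ab X where
  obj k := kernel (k.down.factorial • 𝟙 I)
  map {k l} φ := kernel.lift _ (kernel.ι _) (by
    obtain ⟨c, hc⟩ := Nat.factorial_dvd_factorial (show k.down ≤ l.down from (leOfHom φ : k ≤ l))
    rw [hc, mul_comm, mul_nsmul', Preadditive.comp_nsmul, Preadditive.comp_nsmul, Category.comp_id]
    rw [show k.down.factorial • kernel.ι (k.down.factorial • 𝟙 I) = 0 by
      have h0 := kernel.condition (k.down.factorial • 𝟙 I)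
      rwa [Preadditive.comp_nsmul, Category.comp_id] at h0, smul_zero])
  map_id k := (cancel_mono (kernel.ι (k.down.factorial • 𝟙 I))).1 (by simp)
  map_comp {j k l} φ ψ := (cancel_mono (kernel.ι (l.down.factorial • 𝟙 I))).1 (by simp)

/-- The levels inside the sheaf. -/
noncomputable def levelsι : levels I ⟶ (Functor.const Idx.{u}).obj I where
  app k := kernel.ι _
  naturality k l φ := by simp [levels]

/-- The torsion part. -/
noncomputable def torsI : EtCoh.Ab X := colimit (levels I)

/-- The torsion part inside the sheaf. -/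
noncomputable def torsIι : torsI I ⟶ I := colimit.desc (levels I) ⟨I, levelsι I⟩

instance mono_torsIι : Mono (torsIι I) := by
  haveI : ∀ k, Mono ((levelsι I).app k) := fun k => by show Mono (kernel.ι _); infer_instance
  haveI : Mono (levelsι I) := NatTrans.mono_of_mono_app _
  haveI : HasExactColimitsOfShape Idx.{u} (EtCoh.Ab X) := inferInstance
  have hm : Mono (colim.map (levelsι I)) := Functor.map_mono _ _
  have h : torsIι I = colim.map (levelsι I) ≫ colimit.desc _ ⟨I, 𝟙 _⟩ := by
    apply colimit.hom_ext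
    intro k
    simp [torsIι]
  rw [h]
  haveI : IsIso (colimit.desc ((Functor.const Idx.{u}).obj I) ⟨I, 𝟙 _⟩) :=
    (IsColimit.coconePointUniqueUpToIso (colimit.isColimit _) (isColimitConstCocone Idx.{u} I)).isIso_hom
  exact @mono_comp _ _ _ _ _ _ hm _ inferInstance

theorem isTorsion_torsI : EtCoh.IsTorsion (torsI I) := by
  intro U s x
  obtain ⟨O, hO, hxO, -⟩ := exists_isAffineOpen_mem_and_subset (Set.mem_univ x) (U := (⊤ : U.left.Opens))
  let W := restrictEtale U O
  haveI : IsAffine W.left := hO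
  haveI : PreservesColimitsOfShape Idx.{u} (sheafToPresheaf X.smallEtaleTopology AddCommGrpCat.{u + 1} ⋙
      (evaluation X.Etaleᵒᵖ AddCommGrpCat.{u + 1}).obj (op W)) :=
    preservesColimitsOfShape_sections_qcqs_ab _ (isQcqsObj_of_isAffine W) _
  let hc := isColimitOfPreserves (sheafToPresheaf X.smallEtaleTopology AddCommGrpCat.{u + 1} ⋙
    (evaluation X.Etaleᵒᵖ AddCommGrpCat.{u + 1}).obj (op W)) (colimit.isColimit (levels I))
  obtain ⟨k, t, ht⟩ := Concrete.isColimit_exists_rep _ hc ((torsI I).obj.map (restrictEtaleHom U O).op s)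
  refine ⟨W, restrictEtaleHom U O, ⟨(⟨x, hxO⟩ : O), rfl⟩,
    isOfFinAddOrder_iff_nsmul_eq_zero.2 ⟨k.down.factorial, Nat.factorial_pos _, ?_⟩⟩
  rw [← ht]
  exact (map_nsmul _ _ _).symm.trans ((congrArg _ (killedBy_kernel I k.down.factorial W t)).trans (map_zero _))

theorem exists_lift_torsI {F : EtCoh.Ab X} (hF : EtCoh.IsTorsion F) (a : F ⟶ I) :
    ∃ b : F ⟶ torsI I, b ≫ torsIι I = a := by
  refine ⟨Abelian.monoLift (torsIι I) a ?_, Abelian.monoLift_comp _ _ _⟩
  refine Sheaf.hom_ext (NatTrans.ext (funext fun U => ?_))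
  refine AddCommGrpCat.hom_ext (AddMonoidHom.ext fun s => ?_)
  refine EtLim64.sect_ext _ _ _ fun x => ?_
  obtain ⟨V, g, ⟨v, hv⟩, hfin⟩ := hF U.unop s x
  obtain ⟨n, hn, hns⟩ := isOfFinAddOrder_iff_nsmul_eq_zero.1 hfin
  let k : Idx.{u} := ⟨n⟩
  let S := ShortComplex.mk (kernel.ι (n.factorial • 𝟙 I)) (n.factorial • 𝟙 I) (kernel.condition _)
  have hkill : (n.factorial • 𝟙 I : I ⟶ I).hom.app (op V) (a.hom.app (op V) (F.obj.map g.op s)) = 0 := by
    refine (nsmul_hom_app (𝟙 I) n.factorial V _).trans ?_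
    obtain ⟨c, hc⟩ := Nat.dvd_factorial hn le_rfl
    show n.factorial • a.hom.app (op V) (F.obj.map g.op s) = 0
    rw [hc, ← map_nsmul, mul_nsmul, hns, smul_zero, map_zero]
  obtain ⟨V', g', t, ⟨w, hw⟩, ht⟩ := EtDerLib.exists_local_preimage
    (ShortComplex.exact_of_f_is_kernel S (kernelIsKernel _)) V _ hkill v
  refine ⟨V', g' ≫ g, w, (Scheme.Hom.comp_apply _ _ _).trans ((congrArg g.left.base hw).trans hv), ?_⟩
  show _ = (cokernel (torsIι I)).obj.map (g' ≫ g).op 0
  rw [map_zero]
  show (cokernel (torsIι I)).obj.map (g' ≫ g).op ((a ≫ cokernel.π (torsIι I)).hom.app U s) = 0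
  rw [← NatTrans.naturality_apply (a ≫ cokernel.π (torsIι I)).hom]
  show (cokernel.π (torsIι I)).hom.app _ (a.hom.app _ (F.obj.map (g' ≫ g).op s)) = 0
  rw [op_comp, Functor.map_comp_apply, NatTrans.naturality_apply a.hom g'.op, ← ht]
  have hfac : colimit.ι (levels I) k ≫ torsIι I = kernel.ι (n.factorial • 𝟙 I) := colimit.ι_desc _ _
  show (kernel.ι (n.factorial • 𝟙 I) ≫ cokernel.π (torsIι I)).hom.app (op V') t = 0
  have h0 : kernel.ι (n.factorial • 𝟙 I) ≫ cokernel.π (torsIι I) = 0 := by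
    refine (congrArg (· ≫ cokernel.π (torsIι I)) hfac.symm).trans ?_
    exact (Category.assoc _ _ _).trans ((congrArg (_ ≫ ·) (cokernel.condition (torsIι I))).trans comp_zero)
  rw [h0]
  rfl

end Tors

/-- Torsion sheaves embed into torsion sheaves acyclic in every square. -/
theorem exists_torsion_embedding {F : EtCoh.Ab X} (hF : EtCoh.IsTorsion F) :
    ∃ (J : EtCoh.Ab X) (ι : F ⟶ J), Mono ι ∧ EtCoh.IsTorsion J ∧
      (∀ {Y : Scheme.{u}} (f : X ⟶ Y) [QuasiCompact f] [QuasiSeparated f], IsRightAcyclic (EtCoh.push f) J) ∧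
      (∀ {Y : Scheme.{u}} (f : X ⟶ Y) [QuasiCompact f] [QuasiSeparated f], Good f →
        ∀ {X' Y' : Scheme.{u}} (f' : X' ⟶ Y') (g' : X' ⟶ X) (g : Y' ⟶ Y), IsPullback g' f' f g →
          IsRightAcyclic (EtCoh.push f') ((EtCoh.pull g').obj J)) := by
  let I := Injective.under F
  haveI : Injective I := inferInstanceAs (Injective (Injective.under F))
  obtain ⟨b, hb⟩ := exists_lift_torsI I hF (Injective.ι F)
  refine ⟨torsI I, b, mono_of_mono_fac hb, isTorsion_torsI I, fun f _ _ => ?_, fun f _ _ hf X' Y' f' g' g h => ?_⟩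
  · exact isRightAcyclic_push_colimit f (levels I) fun k =>
      isRightAcyclic_push_kernel f I (Nat.factorial_ne_zero _)
  · haveI : (EtCoh.pull g').IsLeftAdjoint := (EtCoh.pullPushAdj g').isLeftAdjoint
    haveI : QuasiCompact f' := MorphismProperty.of_isPullback h ‹QuasiCompact f›
    haveI : QuasiSeparated f' := MorphismProperty.of_isPullback h ‹QuasiSeparated f›
    exact isRightAcyclic_of_iso _ (preservesColimitIso (EtCoh.pull g') (levels I))
      (isRightAcyclic_push_colimit f' (levels I ⋙ EtCoh.pull g') fun k =>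
        isRightAcyclic_pull_kernel hf I h _ (Nat.factorial_pos _))

end Groth.Agent.EtPBC63.Good
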