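import Groth.Agent.EtPBC63.Good.Local

/-!
# Descent along a jointly surjective finite family
-/

universe u

open CategoryTheory CategoryTheory.Limits AlgebraicGeometry Opposite

namespace Groth.Agent.EtPBC63.Good

open TriCat

set_option backward.isDefEq.respectTransparency.types false
set_option linter.style.haveILetI false

theorem isRightAcyclic_biproduct {A B : Type*} [Category A] [Abelian A] [EnoughInjectives A] [Category B] [Abelian B]
    {Φ : A ⥤ B} [Φ.Additive] [HasFiniteBiproducts A] [HasFiniteBiproducts B]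
    {κ : Type} [Finite κ] (M : κ → A) (h : ∀ K, IsRightAcyclic Φ (M K)) :
    IsRightAcyclic Φ (⨁ M) := fun q hq => by
  refine IsZero.of_iso ?_ ((Φ.rightDerived q).mapBiproduct M)
  rw [IsZero.iff_id_eq_zero]
  exact biproduct.hom_ext _ _ fun K => (h K q hq).eq_of_tgt _ _

variable {Y Z : Scheme.{u}} {κ : Type} [Finite κ] {X : κ → Scheme.{u}}

/-- Descent along a jointly surjective family. -/
theorem good_of_family (f : ∀ K, X K ⟶ Y) [∀ K, IsProper (f K)] (hsurj : ∀ y : Y, ∃ K, y ∈ Set.range (f K).base)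
    {g : Y ⟶ Z} (hf : ∀ K, Good (f K)) (hgf : ∀ K, Good (f K ≫ g)) : Good g := by
  intro ℓ hℓ J hJ Y' Z' g1 k1 k hsq
  choose I ι hι hI using fun K => exists_ellInj_embedding (killedBy_pull (f K) hJ.1)
  haveI := hι
  haveI : ∀ K, (EtCoh.push (f K)).IsRightAdjoint := fun K => (EtCoh.pullPushAdj (f K)).isRightAdjoint
  let M := fun K => (EtCoh.push (f K)).obj (I K)
  let j : J ⟶ ⨁ M := biproduct.lift fun K =>
    (EtCoh.pullPushAdj (f K)).unit.app J ≫ (EtCoh.push (f K)).map (ι K)
  haveI : Mono j := by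
    refine Preadditive.mono_of_isZero_kernel _ (EtDerLib.isZero_of_pull_covers f hsurj fun K => ?_)
    haveI := EtFound.pull_preservesFiniteLimits (f K)
    haveI : (EtCoh.pull (f K)).IsLeftAdjoint := (EtCoh.pullPushAdj (f K)).isLeftAdjoint
    let adj := EtCoh.pullPushAdj (f K)
    have h0 : adj.homEquiv _ _ ((EtCoh.pull (f K)).map (kernel.ι j) ≫ ι K) = adj.homEquiv _ _ 0 := by
      rw [adj.homEquiv_naturality_left, adj.homEquiv_unit, adj.homEquiv_unit, Functor.map_zero, comp_zero]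
      have := congrArg (fun a => a ≫ biproduct.π M K) (kernel.condition j)
      rw [Category.assoc, biproduct.lift_π, zero_comp] at this
      exact this
    refine IsZero.of_mono_eq_zero ((EtCoh.pull (f K)).map (kernel.ι j)) ?_
    exact (cancel_mono (ι K)).1 (((adj.homEquiv _ _).injective h0).trans zero_comp.symm)
  have hkill : EtCoh.KilledBy ℓ (⨁ M) := (EtBCLib.killedBy_iff ℓ _).2 (biproduct.hom_ext _ _ fun K => by
    have hK := (EtBCLib.killedBy_iff ℓ (M K)).1 (killedBy_push (f K) (hI K).1)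
    calc (ℓ • 𝟙 (⨁ M)) ≫ biproduct.π M K = biproduct.π M K ≫ (ℓ • 𝟙 (M K)) := by
          rw [Preadditive.nsmul_comp, Category.id_comp, Preadditive.comp_nsmul, Category.comp_id]
      _ = 0 ≫ biproduct.π M K := by rw [hK, comp_zero, zero_comp])
  obtain ⟨r, hr⟩ := hJ.2 J hJ.1 (𝟙 J) j hkill inferInstance
  haveI : (EtCoh.push g1).IsRightAdjoint := (EtCoh.pullPushAdj g1).isRightAdjoint
  haveI : (EtCoh.pull k1).IsLeftAdjoint := (EtCoh.pullPushAdj k1).isLeftAdjoint
  refine isRightAcyclic_of_retract _ ((EtCoh.pull k1).map j) ((EtCoh.pull k1).map r)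
    (by rw [← Functor.map_comp, hr, (EtCoh.pull k1).map_id]) ?_
  refine isRightAcyclic_of_iso _ ((EtCoh.pull k1).mapBiproduct M) (isRightAcyclic_biproduct _ fun K => ?_)
  let f1 := pullback.snd (f K) k1
  let k' := pullback.fst (f K) k1
  have sq1 : IsPullback k' f1 (f K) k1 := IsPullback.of_hasPullback (f K) k1
  haveI : (EtCoh.push f1).IsRightAdjoint := (EtCoh.pullPushAdj f1).isRightAdjoint
  haveI := EtPBC63.Proper0.isIso_baseChange0_of_isProper sq1 (I K)
  refine isRightAcyclic_of_iso _ (asIso (EtCoh.baseChange0 (f K) k1 f1 k' sq1.w (I K))) ?_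
  refine isRightAcyclic_of_comp (EtCoh.push f1) (EtCoh.push g1) (hf K ℓ hℓ _ (hI K) f1 k' k1 sq1) ?_
  exact isRightAcyclic_of_natIso (EtCoh.pushComp g1 f1).symm
    (hgf K ℓ hℓ _ (hI K) (f1 ≫ g1) k' k (sq1.paste_vert hsq))

theorem uGood_of_family (f : ∀ K, X K ⟶ Y) [∀ K, IsProper (f K)] (hsurj : ∀ y : Y, ∃ K, y ∈ Set.range (f K).base)
    {g : Y ⟶ Z} (hf : ∀ K, UGood (f K)) (hgf : ∀ K, UGood (f K ≫ g)) : UGood g := by
  intro Y' Z' g1 k1 k hsq
  have sq : ∀ K, IsPullback (pullback.fst (f K) k1) (pullback.snd (f K) k1) (f K) k1 :=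
    fun K => IsPullback.of_hasPullback (f K) k1
  haveI : ∀ K, IsProper (pullback.snd (f K) k1) := fun K => MorphismProperty.of_isPullback (sq K) inferInstance
  refine good_of_family (fun K => pullback.snd (f K) k1) (fun y' => ?_)
    (fun K => hf K _ _ k1 (sq K)) fun K => hgf K _ _ k ((sq K).paste_vert hsq)
  obtain ⟨K, x, hx⟩ := hsurj (k1.base y')
  obtain ⟨z, -, hz⟩ := Scheme.Pullback.exists_preimage_pullback (f := f K) (g := k1) x y' hx
  exact ⟨K, z, hz⟩

end Groth.Agent.EtPBC63.Good
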