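import Groth.Agent.EtPBC63.Good.Embed

/-!
# The base change isomorphisms from acyclicity of injective sheaves killed by a prime
-/

universe u

open CategoryTheory CategoryTheory.Limits AlgebraicGeometry Opposite

namespace Groth.Agent.EtPBC63.Good

open TriCat EtFound

set_option backward.isDefEq.respectTransparency.types false

variable {X Y X' Y' : Scheme.{u}}

theorem baseChange0_natural (f : X ⟶ Y) (g : Y' ⟶ Y) (f' : X' ⟶ Y') (g' : X' ⟶ X) (w : g' ≫ f = f' ≫ g)
    {F G : EtCoh.Ab X} (a : F ⟶ G) :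
    (EtCoh.pull g).map ((EtCoh.push f).map a) ≫ EtCoh.baseChange0 f g f' g' w G =
      EtCoh.baseChange0 f g f' g' w F ≫ (EtCoh.push f').map ((EtCoh.pull g').map a) := by
  have hu := (EtCoh.pullPushAdj g').unit.naturality a
  have h1 := (EtCoh.pushComp f g').hom.naturality ((EtCoh.pull g').map a)
  have h2 := (EtCoh.pushCongr w).hom.naturality ((EtCoh.pull g').map a)
  have h3 := (EtCoh.pushComp g f').inv.naturality ((EtCoh.pull g').map a)
  unfold EtCoh.baseChange0
  rw [← Adjunction.homEquiv_naturality_left_symm, ← Adjunction.homEquiv_naturality_right_symm]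
  congr 1
  simp only [Functor.id_map, Functor.comp_map] at hu h1 h2 h3
  simp only [Category.assoc, ← h3]
  rw [reassoc_of% h2.symm, reassoc_of% h1.symm, ← Functor.map_comp_assoc, ← Functor.map_comp_assoc, hu]

theorem isTorsion_of_epi {F G : EtCoh.Ab X} (p : F ⟶ G) [Epi p] (hF : EtCoh.IsTorsion F) :
    EtCoh.IsTorsion G := fun U s x => by
  obtain ⟨V, g, t, ⟨v, hv⟩, ht⟩ := EtDerLib.exists_local_preimage
    (S := ShortComplex.mk p (0 : G ⟶ G) comp_zero) ((ShortComplex.exact_iff_epi _ rfl).2 ‹Epi p›) U s rfl x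
  obtain ⟨W, k, ⟨w, hw⟩, hk⟩ := hF V t v
  obtain ⟨n, hn, hn0⟩ := isOfFinAddOrder_iff_nsmul_eq_zero.1 hk
  refine ⟨W, k ≫ g, ⟨w, (Scheme.Hom.comp_apply _ _ _).trans ((congrArg g.left.base hw).trans hv)⟩,
    isOfFinAddOrder_iff_nsmul_eq_zero.2 ⟨n, hn, ?_⟩⟩
  rw [op_comp, Functor.map_comp_apply, ← ht]
  refine (congrArg (n • ·) (NatTrans.naturality_apply p.hom k.op t).symm).trans ?_
  exact (map_nsmul _ _ _).symm.trans ((congrArg _ hn0).trans (map_zero _))

variable {f : X ⟶ Y} [IsProper f]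

/-- Base change in every degree from acyclicity. -/
theorem nonempty_bc_iso (hf : Good f) {f' : X' ⟶ Y'} {g' : X' ⟶ X} {g : Y' ⟶ Y} (h : IsPullback g' f' f g) :
    ∀ (q : ℕ) (F : EtCoh.Ab X), EtCoh.IsTorsion F → Nonempty ((EtCoh.pull g).obj ((EtCoh.Rpush f q).obj F) ≅
      (EtCoh.Rpush f' q).obj ((EtCoh.pull g').obj F)) := by
  haveI : (EtCoh.push f).IsRightAdjoint := (EtCoh.pullPushAdj f).isRightAdjoint
  haveI : (EtCoh.push f').IsRightAdjoint := (EtCoh.pullPushAdj f').isRightAdjoint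
  haveI : (EtCoh.pull g).IsLeftAdjoint := (EtCoh.pullPushAdj g).isLeftAdjoint
  haveI : (EtCoh.pull g').IsLeftAdjoint := (EtCoh.pullPushAdj g').isLeftAdjoint
  haveI := EtFound.pull_preservesFiniteLimits g
  haveI := EtFound.pull_preservesFiniteLimits g'
  intro q
  induction q with
  | zero =>
    intro F _
    haveI := EtPBC63.Proper0.isIso_baseChange0_of_isProper h F
    exact ⟨(EtCoh.pull g).mapIso ((EtCoh.push f).rightDerivedZeroIsoSelf.app F) ≪≫
      asIso (EtCoh.baseChange0 f g f' g' h.w F) ≪≫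
      ((EtCoh.push f').rightDerivedZeroIsoSelf.app ((EtCoh.pull g').obj F)).symm⟩
  | succ q ih =>
    intro F hF
    obtain ⟨J, ι, hι, hJ, hJac, hJac'⟩ := exists_torsion_embedding hF
    haveI := hι
    let S := ShortComplex.mk ι (cokernel.π ι) (cokernel.condition ι)
    have hS : S.ShortExact := { exact := ShortComplex.exact_of_g_is_cokernel _ (cokernelIsCokernel _) }
    have hS' : (S.map (EtCoh.pull g')).ShortExact := hS.map_of_exact _
    have h2 : IsRightAcyclic (EtCoh.push f) S.X₂ := hJac f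
    have h2' : IsRightAcyclic (EtCoh.push f') (S.map (EtCoh.pull g')).X₂ := hJac' f hf f' g' g h
    cases q with
    | zero =>
      obtain ⟨e₁⟩ := nonempty_cokernel_iso (EtCoh.push f) hS (h2 1 one_pos)
      obtain ⟨e₂⟩ := nonempty_cokernel_iso (EtCoh.push f') hS' (h2' 1 one_pos)
      haveI := EtPBC63.Proper0.isIso_baseChange0_of_isProper h S.X₂
      haveI := EtPBC63.Proper0.isIso_baseChange0_of_isProper h S.X₃
      exact ⟨(EtCoh.pull g).mapIso e₁ ≪≫ PreservesCokernel.iso (EtCoh.pull g) _ ≪≫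
        cokernel.mapIso _ _ (asIso (EtCoh.baseChange0 f g f' g' h.w S.X₂))
          (asIso (EtCoh.baseChange0 f g f' g' h.w S.X₃)) (baseChange0_natural f g f' g' h.w S.g) ≪≫ e₂.symm⟩
    | succ q =>
      obtain ⟨e₁⟩ := nonempty_shift_iso (EtCoh.push f) hS h2 q
      obtain ⟨e₂⟩ := nonempty_shift_iso (EtCoh.push f') hS' h2' q
      obtain ⟨e₃⟩ := ih S.X₃ (isTorsion_of_epi (cokernel.π ι) hJ)
      exact ⟨(EtCoh.pull g).mapIso e₁.symm ≪≫ e₃ ≪≫ e₂⟩

theorem cohCommutesWithBC_of_good (hf : Good f) : EtPBC.CohCommutesWithBC f :=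
  fun _ _ _ _ _ _ _ _ h F hF q => nonempty_bc_iso hf h q F hF

omit [IsProper f] in
theorem good_of_cohCommutesWithBC (hc : EtPBC.CohCommutesWithBC f) : Good f := by
  intro ℓ hℓ I hI X' Y' f' g' g h q hq
  haveI : (EtCoh.pull g).IsLeftAdjoint := (EtCoh.pullPushAdj g).isLeftAdjoint
  obtain ⟨e⟩ := hc f' g' g h I (isTorsion_of_nsmul hℓ.pos ((EtBCLib.killedBy_iff ℓ I).1 hI.1)) q
  exact ((EtCoh.pull g).map_isZero (hI.isRightAcyclic_push hℓ.ne_zero f q hq)).of_iso e.symm

theorem good_iff : Good f ↔ EtPBC.CohCommutesWithBC f :=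
  ⟨cohCommutesWithBC_of_good, good_of_cohCommutesWithBC⟩

end Groth.Agent.EtPBC63.Good
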