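import Groth.Agent.EtPBC63.Good.Iso
import Groth.Agent.EtBCLib.BCQEt
import Groth.Agent.EtDerLib.DepthLocal
import Groth.Agent.EtFound.PushExact
import Groth.Agent.SiteBase.LerayTop

/-!
# Integral morphisms, restriction to opens of the target, and the universal version
-/

universe u

open CategoryTheory CategoryTheory.Limits AlgebraicGeometry Opposite

namespace Groth.Agent.EtPBC63.Good

open TriCat

set_option backward.isDefEq.respectTransparency.types false

set_option linter.style.haveILetI false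
variable {X Y Z : Scheme.{u}}

theorem EllInj.of_retract {ℓ : ℕ} {I J : EtCoh.Ab X} (hJ : EllInj ℓ J) (i : I ⟶ J) (r : J ⟶ I)
    (h : i ≫ r = 𝟙 I) : EllInj ℓ I := by
  refine ⟨?_, fun G hG a G' m hG' hm => ?_⟩
  · rw [EtBCLib.killedBy_iff]
    calc ℓ • 𝟙 I = i ≫ (ℓ • 𝟙 J) ≫ r := by
          rw [Preadditive.nsmul_comp, Category.id_comp, Preadditive.comp_nsmul, h]
      _ = 0 := by rw [(EtBCLib.killedBy_iff ℓ J).1 hJ.1, zero_comp, comp_zero]
  · obtain ⟨b, hb⟩ := hJ.2 G hG (a ≫ i) m hG' hm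
    exact ⟨b ≫ r, by rw [← Category.assoc, hb, Category.assoc, h, Category.comp_id]⟩

/-- Restriction along etale morphisms keeps the extension property. -/
theorem EllInj.pull_etale (g : Z ⟶ X) [Etale g] {ℓ : ℕ} {I : EtCoh.Ab X} (hI : EllInj ℓ I) :
    EllInj ℓ ((EtCoh.pull g).obj I) := by
  let P := EtCoh.pull g
  haveI := EtFound.pull_preservesFiniteLimits g
  haveI : P.IsLeftAdjoint := (EtCoh.pullPushAdj g).isLeftAdjoint
  haveI := EtBCLib.pull_preservesInjective_of_etale g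
  let I₀ := Injective.under I
  haveI : Injective (P.obj I₀) := Functor.PreservesInjectiveObjects.injective_obj inferInstance
  let ι : I ⟶ kernel (ℓ • 𝟙 I₀) := kernel.lift _ (Injective.ι I) (nsmul_comp_eq_zero hI.1 _)
  haveI : Mono ι := mono_of_mono_fac (kernel.lift_ι _ _ _)
  obtain ⟨r, hr⟩ := hI.2 I hI.1 (𝟙 I) ι (killedBy_kernel _ ℓ) inferInstance
  have e₀ : P.map (ℓ • 𝟙 I₀) = ℓ • 𝟙 (P.obj I₀) := by rw [Functor.map_nsmul, CategoryTheory.Functor.map_id]
  let e : P.obj (kernel (ℓ • 𝟙 I₀)) ≅ kernel (ℓ • 𝟙 (P.obj I₀)) :=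
    PreservesKernel.iso P (ℓ • 𝟙 I₀) ≪≫ kernelIsoOfEq e₀
  refine (ellInj_kernel (P.obj I₀) ℓ).of_retract (P.map ι ≫ e.hom) (e.inv ≫ P.map r) ?_
  rw [Category.assoc, Iso.hom_inv_id_assoc, ← P.map_comp, hr, P.map_id]

/-- Integral morphisms. -/
theorem good_of_integral (f : X ⟶ Y) [IsIntegralHom f] : Good f := by
  intro ℓ _ I _ X' Y' f' g' g h q hq
  haveI : IsIntegralHom f' := MorphismProperty.of_isPullback h ‹IsIntegralHom f›
  haveI := EtFound.push_preservesFiniteLimits f'
  haveI := EtFound.push_preservesFiniteColimits f'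
  obtain ⟨m, rfl⟩ := Nat.exists_eq_add_one.2 hq
  exact LerayDegen.isZero_rightDerived_of_exact (EtCoh.push f') _ m

/-- Cohomology of restrictions: `Good` is local on the target. -/
theorem good_of_cover {f : X ⟶ Y} {ι : Type*} (U : ι → Scheme.{u}) (u : ∀ i, U i ⟶ Y) [∀ i, Etale (u i)]
    (hcov : ∀ y : Y, ∃ i, y ∈ Set.range (u i).base) (h : ∀ i, Good (pullback.snd f (u i))) : Good f := by
  intro ℓ hℓ I hI X' Y' f' g' g hsq q hq
  refine EtDerLib.isZero_of_pull_covers (fun i => pullback.fst g (u i)) (fun y' => ?_) fun i => ?_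
  · obtain ⟨i, x, hx⟩ := hcov (g.base y')
    obtain ⟨z, hz, -⟩ := Scheme.Pullback.exists_preimage_pullback (f := g) (g := u i) y' x hx.symm
    exact ⟨i, z, hz⟩
  let c := pullback.fst g (u i)
  let gi := pullback.snd g (u i)
  let fi := pullback.snd f (u i)
  let vi := pullback.fst f (u i)
  haveI : Etale c := MorphismProperty.pullback_fst g (u i) inferInstance
  haveI : Etale vi := MorphismProperty.pullback_fst f (u i) inferInstance
  let t := pullback.fst f' c
  let fi' := pullback.snd f' c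
  have e : (t ≫ g') ≫ f = (fi' ≫ gi) ≫ u i := by
    rw [Category.assoc, hsq.w, ← Category.assoc, pullback.condition, Category.assoc, Category.assoc,
      pullback.condition]
  let gi' : pullback f' c ⟶ pullback f (u i) := pullback.lift (t ≫ g') (fi' ≫ gi) e
  have sqC : IsPullback t fi' f' c := IsPullback.of_hasPullback f' c
  have sqI : IsPullback gi' fi' fi gi := by
    refine IsPullback.of_right ?_ (pullback.lift_snd _ _ _) (IsPullback.of_hasPullback f (u i))
    rw [pullback.lift_fst, ← (IsPullback.of_hasPullback g (u i)).w]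
    exact sqC.paste_horiz hsq
  have hw : gi' ≫ vi = t ≫ g' := pullback.lift_fst _ _ _
  haveI := EtFound.pull_preservesFiniteLimits t
  haveI := EtBCLib.isIso_bcQ_etale sqC q ((EtCoh.pull g').obj I)
  refine IsZero.of_iso ?_ (asIso (EtBC.bcQ f' c fi' t sqC.w q ((EtCoh.pull g').obj I)))
  refine IsZero.of_iso ?_ ((EtCoh.Rpush fi' q).mapIso
    (((EtCore.pullComp t g').symm ≪≫ EtCore.pullCongr hw.symm ≪≫ EtCore.pullComp gi' vi).app I))
  exact h i ℓ hℓ _ (hI.pull_etale vi) fi' gi' gi sqI q hq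

theorem good_of_openCover {f : X ⟶ Y} (𝒰 : Y.OpenCover) (h : ∀ i, Good (pullback.snd f (𝒰.f i))) : Good f :=
  good_of_cover 𝒰.X 𝒰.f (fun y => ⟨_, 𝒰.covers y⟩) h

/-- Every base change is good. -/
def UGood (f : X ⟶ Y) : Prop :=
  ∀ ⦃X' Y' : Scheme.{u}⦄ (f' : X' ⟶ Y') (g' : X' ⟶ X) (g : Y' ⟶ Y), IsPullback g' f' f g → Good f'

theorem UGood.good {f : X ⟶ Y} (h : UGood f) : Good f :=
  h f (𝟙 X) (𝟙 Y) (IsPullback.of_id_fst)

theorem UGood.of_isPullback {X' Y' : Scheme.{u}} {f : X ⟶ Y} (h : UGood f) {f' : X' ⟶ Y'} {g' : X' ⟶ X}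
    {g : Y' ⟶ Y} (sq : IsPullback g' f' f g) : UGood f' :=
  fun _ _ f'' k' k hk => h f'' (k' ≫ g') (k ≫ g) (hk.paste_horiz sq)

theorem uGood_of_integral (f : X ⟶ Y) [IsIntegralHom f] : UGood f := by
  intro X' Y' f' g' g h
  haveI : IsIntegralHom f' := MorphismProperty.of_isPullback h ‹IsIntegralHom f›
  exact good_of_integral f'

theorem UGood.comp {f : X ⟶ Y} {g : Y ⟶ Z} [IsProper f] (hf : UGood f) (hg : UGood g) : UGood (f ≫ g) := by
  intro X' Z' h12 k' k hsq
  let k1 := pullback.fst g k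
  let g1 := pullback.snd g k
  let f1 : X' ⟶ pullback g k := pullback.lift (k' ≫ f) h12 ((Category.assoc _ _ _).trans hsq.w)
  have e12 : f1 ≫ g1 = h12 := pullback.lift_snd _ _ _
  have sq1 : IsPullback k' f1 f k1 := by
    refine IsPullback.of_bot ?_ (pullback.lift_fst _ _ _).symm (IsPullback.of_hasPullback g k)
    rw [e12]; exact hsq
  haveI : IsProper f1 := MorphismProperty.of_isPullback sq1 ‹IsProper f›
  exact e12 ▸ (hf f1 k' k1 sq1).comp (hg g1 k1 k (IsPullback.of_hasPullback g k))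

theorem UGood.sandwich {f : X ⟶ Y} {g : Y ⟶ Z} [IsProper f] [Surjective f] (hf : UGood f)
    (hgf : UGood (f ≫ g)) : UGood g := by
  intro Y' Z' g1 k1 k hsq
  let f1 := pullback.snd f k1
  have sq1 : IsPullback (pullback.fst f k1) f1 f k1 := IsPullback.of_hasPullback f k1
  haveI : IsProper f1 := MorphismProperty.of_isPullback sq1 ‹IsProper f›
  haveI : Surjective f1 := MorphismProperty.of_isPullback sq1 ‹Surjective f›
  exact (hf f1 _ k1 sq1).sandwich (hgf _ _ k (sq1.paste_vert hsq))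

theorem uGood_of_iso {f : X ⟶ Y} {X' : Scheme.{u}} (e : X' ≅ X) {f' : X' ⟶ Y} (h : e.hom ≫ f = f')
    (hf : UGood f) : UGood f' :=
  hf.of_isPullback (g' := e.hom) (g := 𝟙 Y) (IsPullback.of_horiz_isIso ⟨by rw [h, Category.comp_id]⟩)

theorem uGood_of_openCover {f : X ⟶ Y} (𝒰 : Y.OpenCover) (h : ∀ i, UGood (pullback.snd f (𝒰.f i))) :
    UGood f := by
  intro X' Y' f' g' g hsq
  refine good_of_openCover (𝒰.pullback₁ g) fun i => ?_
  let ci := pullback.fst g (𝒰.f i)
  let gi := pullback.snd g (𝒰.f i)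
  let t := pullback.fst f' ci
  have e : (t ≫ g') ≫ f = (pullback.snd f' ci ≫ gi) ≫ 𝒰.f i := by
    rw [Category.assoc, hsq.w, ← Category.assoc, pullback.condition, Category.assoc, Category.assoc,
      pullback.condition]
  refine h i (pullback.snd f' ci) (pullback.lift (t ≫ g') (pullback.snd f' ci ≫ gi) e) gi ?_
  refine IsPullback.of_right ?_ (pullback.lift_snd _ _ _) (IsPullback.of_hasPullback f (𝒰.f i))
  rw [pullback.lift_fst, ← (IsPullback.of_hasPullback g (𝒰.f i)).w]
  exact (IsPullback.of_hasPullback f' ci).paste_horiz hsq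

end Groth.Agent.EtPBC63.Good
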