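import Groth.Agent.TriCat.AcyclicObj
import Mathlib.CategoryTheory.Preadditive.Injective.Preserves
import Mathlib.CategoryTheory.Abelian.Injective.Resolution

/-!
# Acyclic objects and derived functors of composites, in degreewise form
-/

universe v₁ v₂ v₃ u₁ u₂ u₃

open CategoryTheory CategoryTheory.Limits

namespace Groth.Agent.EtPBC63.Good

open TriCat

variable {A : Type u₁} [Category.{v₁} A] [Abelian A] [EnoughInjectives A]
  {B : Type u₂} [Category.{v₂} B] [Abelian B]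
  (Φ : A ⥤ B) [Φ.Additive]

theorem isZero_of_retract {C : Type u₂} [Category.{v₂} C] {X Y : C} [HasZeroMorphisms C] (i : X ⟶ Y) (r : Y ⟶ X)
    (h : i ≫ r = 𝟙 X) (hY : IsZero Y) : IsZero X :=
  (IsZero.iff_id_eq_zero X).2 (by rw [← h, hY.eq_of_src r 0, comp_zero])

theorem isRightAcyclic_of_retract {X Y : A} (i : X ⟶ Y) (r : Y ⟶ X) (h : i ≫ r = 𝟙 X)
    (hY : IsRightAcyclic Φ Y) : IsRightAcyclic Φ X := fun q hq =>
  isZero_of_retract ((Φ.rightDerived q).map i) ((Φ.rightDerived q).map r)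
    (by rw [← Functor.map_comp, h, (Φ.rightDerived q).map_id]) (hY q hq)

theorem isRightAcyclic_of_iso {X Y : A} (e : X ≅ Y) (hY : IsRightAcyclic Φ Y) : IsRightAcyclic Φ X :=
  isRightAcyclic_of_retract Φ e.hom e.inv e.hom_inv_id hY

variable [PreservesFiniteLimits Φ] {S : ShortComplex A} (hS : S.ShortExact)

include hS

/-- Dimension shift along a sequence with acyclic middle term. -/
theorem nonempty_shift_iso (h₂ : IsRightAcyclic Φ S.X₂) (i : ℕ) :
    Nonempty ((Φ.rightDerived (i + 1)).obj S.X₃ ≅ (Φ.rightDerived (i + 2)).obj S.X₁) := by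
  let := HasDerivedCategory.standard A
  let := HasDerivedCategory.standard B
  obtain ⟨δ, w₁, w₂, w₃, -, e₂, e₃⟩ := exists_rightDerived_ses Φ hS (i + 1)
  haveI : Mono δ := e₂.mono_g ((h₂ (i + 1) (by omega)).eq_of_src _ _)
  haveI : Epi δ := e₃.epi_f ((h₂ (i + 1 + 1) (by omega)).eq_of_tgt _ _)
  haveI := isIso_of_mono_of_epi δ
  exact ⟨asIso δ⟩

/-- The first derived functor as a cokernel. -/
theorem nonempty_cokernel_iso (h₂ : IsZero ((Φ.rightDerived 1).obj S.X₂)) :
    Nonempty ((Φ.rightDerived 1).obj S.X₁ ≅ cokernel (Φ.map S.g)) := by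
  let := HasDerivedCategory.standard A
  let := HasDerivedCategory.standard B
  obtain ⟨δ, w₁, w₂, w₃, -, e₂, e₃⟩ := exists_rightDerived_ses Φ hS 0
  haveI : Epi δ := e₃.epi_f (h₂.eq_of_tgt _ _)
  exact ⟨e₂.gIsCokernel.coconePointUniqueUpToIso (cokernelIsCokernel _) ≪≫
    cokernel.mapIso _ _ (Φ.rightDerivedZeroIsoSelf.app S.X₂) (Φ.rightDerivedZeroIsoSelf.app S.X₃)
      (Φ.rightDerivedZeroIsoSelf.hom.naturality S.g)⟩

omit hS

variable {C : Type u₃} [Category.{v₃} C] [Abelian C] [EnoughInjectives B] (Ψ : B ⥤ C) [Ψ.Additive]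
  [PreservesFiniteLimits Ψ] [Φ.PreservesInjectiveObjects]

/-- Derived functors of a composite at an acyclic object. -/
theorem nonempty_comp_iso : ∀ (i : ℕ) (M : A), IsRightAcyclic Φ M →
    Nonempty (((Φ ⋙ Ψ).rightDerived (i + 1)).obj M ≅ (Ψ.rightDerived (i + 1)).obj (Φ.obj M)) := by
  haveI : PreservesFiniteLimits (Φ ⋙ Ψ) := comp_preservesFiniteLimits Φ Ψ
  intro i
  induction i with
  | zero =>
    intro M hM
    let S := ShortComplex.mk (Injective.ι M) (cokernel.π _) (cokernel.condition (Injective.ι M))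
    have hS : S.ShortExact := { exact := ShortComplex.exact_of_g_is_cokernel _ (cokernelIsCokernel _) }
    haveI : Injective S.X₂ := inferInstanceAs (Injective (Injective.under M))
    haveI : Injective (S.map Φ).X₂ := Functor.PreservesInjectiveObjects.injective_obj (F := Φ) inferInstance
    obtain ⟨e₁⟩ := nonempty_cokernel_iso (Φ ⋙ Ψ) hS (isRightAcyclic_of_injective S.X₂ 1 one_pos)
    obtain ⟨e₂⟩ := nonempty_cokernel_iso Ψ (shortExact_map_of_subsingleton hS (hM 1 one_pos))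
      (isRightAcyclic_of_injective (S.map Φ).X₂ 1 one_pos)
    exact ⟨e₁ ≪≫ e₂.symm⟩
  | succ i ih =>
    intro M hM
    let S := ShortComplex.mk (Injective.ι M) (cokernel.π _) (cokernel.condition (Injective.ι M))
    have hS : S.ShortExact := { exact := ShortComplex.exact_of_g_is_cokernel _ (cokernelIsCokernel _) }
    haveI : Injective S.X₂ := inferInstanceAs (Injective (Injective.under M))
    haveI : Injective (S.map Φ).X₂ := Functor.PreservesInjectiveObjects.injective_obj (F := Φ) inferInstance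
    obtain ⟨e₁⟩ := nonempty_shift_iso (Φ ⋙ Ψ) hS (isRightAcyclic_of_injective S.X₂) i
    obtain ⟨e₂⟩ := nonempty_shift_iso Ψ (shortExact_map_of_subsingleton hS (hM 1 one_pos))
      (isRightAcyclic_of_injective (S.map Φ).X₂) i
    obtain ⟨e₃⟩ := ih S.X₃ (acyclic₃ hS hM (isRightAcyclic_of_injective S.X₂))
    exact ⟨e₁.symm ≪≫ e₃ ≪≫ e₂⟩

theorem isRightAcyclic_comp {M : A} (h₁ : IsRightAcyclic Φ M) (h₂ : IsRightAcyclic Ψ (Φ.obj M)) :
    IsRightAcyclic (Φ ⋙ Ψ) M := fun q hq => by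
  obtain ⟨j, rfl⟩ := Nat.exists_eq_succ_of_ne_zero hq.ne'
  exact (h₂ _ hq).of_iso (nonempty_comp_iso Φ Ψ j M h₁).some

theorem isRightAcyclic_of_comp {M : A} (h₁ : IsRightAcyclic Φ M) (h₂ : IsRightAcyclic (Φ ⋙ Ψ) M) :
    IsRightAcyclic Ψ (Φ.obj M) := fun q hq => by
  obtain ⟨j, rfl⟩ := Nat.exists_eq_succ_of_ne_zero hq.ne'
  exact (h₂ _ hq).of_iso (nonempty_comp_iso Φ Ψ j M h₁).some.symm

end Groth.Agent.EtPBC63.Good
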